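-- Finite computation behind the uniqueness of small doubly transitive simple groups whose
-- point stabiliser is a regular group of translations times a group of multiplications.
--
-- Points `0, …, q`, with `q` at infinity; `addT i` and `mulT u` are the tables of the translations
-- and multiplications, `reps` meets every orbit of the multiplications on `1, …, q - 1`;
-- `checkBool`: every admissible involution table becomes `std` after a multiplication.
import Cfsg.Agent.EqLemmas

set_option autoImplicit false

namespace Cfsg.Agent.SmallOrders.TwoPoint

/-- the tables `adds` (of length `q`) and `muls` (of length `r`) as functions -/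
def look (L : List (List ℕ)) (i x : ℕ) : ℕ := (L.getD i []).getD x 0

/-- all lists of the length of `reps` with entries `1, …, q - 1` -/
def assigns (q : ℕ) : List ℕ → List (List ℕ)
  | [] => [[]]
  | _ :: l => ((List.range q).filter (fun c => decide (c ≠ 0))).flatMap fun c =>
      (assigns q l).map (c :: ·)

/-- the value at `x` of an involution with `0 ↦ ∞` and `reps[l] ↦ cs[l]`, twisting `1` to `k` -/
def tAt (q r : ℕ) (muls : List (List ℕ)) (reps cs : List ℕ) (k x : ℕ) : ℕ :=
  if x = 0 then q else if x = q then 0 else
    match (List.range (reps.length * r)).find?
        (fun m => decide (look muls (m % r) (reps.getD (m / r) 0) = x)) with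
    | some m => look muls (k * (m % r) % r) (cs.getD (m / r) 0)
    | none => 0

def tab (q r : ℕ) (muls : List (List ℕ)) (reps cs : List ℕ) (k : ℕ) : List ℕ :=
  (List.range (q + 1)).map (tAt q r muls reps cs k)

def involBool (q : ℕ) (T : List ℕ) : Bool :=
  (List.range (q + 1)).all fun x => decide (T.getD (T.getD x 0) 0 = x)

def goodBool (q r : ℕ) (adds muls : List (List ℕ)) (T : List ℕ) : Bool :=
  (List.range q).all fun i => decide (i = 0) || (List.range q).all fun n =>
    decide (look adds i n ≠ 0) || (List.range q).all fun j =>
      decide (look adds j (T.getD i 0) ≠ 0) || (List.range r).any fun u =>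
        (List.range (q + 1)).all fun x => decide
          (look adds j (T.getD (look adds i (T.getD (look adds (T.getD n 0) x) 0)) 0) =
            look muls u (T.getD x 0))

def conjBool (q r : ℕ) (muls : List (List ℕ)) (std T : List ℕ) : Bool :=
  (List.range r).any fun j => (List.range (q + 1)).all fun x =>
    decide (look muls j (T.getD x 0) = std.getD x 0)

def shapeBool (q r : ℕ) (adds muls : List (List ℕ)) (reps : List ℕ) : Bool :=
  decide (1 < q) && decide (0 < r) &&
  ((List.range q).all fun i => decide (look adds i q = q) && decide (look adds i 0 = i)) &&
  ((List.range q).all fun y => (List.range q).any fun j => decide (look adds j y = 0)) &&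
  ((List.range r).all fun u => decide (look muls u q = q) && decide (look muls u 0 = 0)) &&
  ((List.range r).all fun u => (List.range (q + 1)).all fun x =>
    decide (look muls ((u + 1) % r) x = look muls 1 (look muls u x))) &&
  ((List.range (q + 1)).all fun x => decide (look muls 0 x = x)) &&
  (reps.all fun e => decide (0 < e) && decide (e < q)) &&
  ((List.range q).all fun x => decide (x = 0) || (List.range (reps.length * r)).any fun m =>
    decide (look muls (m % r) (reps.getD (m / r) 0) = x))

def checkBool (q r : ℕ) (adds muls : List (List ℕ)) (reps std : List ℕ) : Bool :=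
  shapeBool q r adds muls reps && (List.range r).all fun k => (assigns q reps).all fun cs =>
    !(involBool q (tab q r muls reps cs k) && goodBool q r adds muls (tab q r muls reps cs k)) ||
      conjBool q r muls std (tab q r muls reps cs k)

theorem mem_assigns {q : ℕ} : ∀ {reps cs : List ℕ}, cs.length = reps.length →
    (∀ c ∈ cs, 0 < c ∧ c < q) → cs ∈ assigns q reps
  | [], [], _, _ => by simp [assigns]
  | _ :: l, c :: cs, h, hc => by
    simp only [assigns, List.mem_flatMap, List.mem_filter, List.mem_range, List.mem_map,
      decide_eq_true_eq]
    exact ⟨c, ⟨(hc c List.mem_cons_self).2, (hc c List.mem_cons_self).1.ne'⟩, cs,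
      mem_assigns (by simpa using h) fun d hd => hc d (List.mem_cons_of_mem c hd), rfl⟩
  | [], _ :: _, h, _ => by simp at h
  | _ :: _, [], h, _ => by simp at h

end Cfsg.Agent.SmallOrders.TwoPoint
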