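-- Doubly transitive groups with a given stabiliser of two points.
--
-- * `exists_injective_std`: given `checkBool`, the image in `Perm (Fin (q + 1))` is `stdGroup`
-- * `mulEquiv_of_injective_std`: two such groups are isomorphic
import Cfsg.Agent.Lib.SmallOrders.TwoPoint.Check

set_option autoImplicit false

namespace Cfsg.Agent.SmallOrders.TwoPoint

open Subgroup

/-- The group generated by the translations, the multiplications and the table `std`. -/
def stdGroup (q r : ℕ) (adds muls : List (List ℕ)) (std : List ℕ) :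
    Subgroup (Equiv.Perm (Fin (q + 1))) :=
  closure {f | (∃ i, i < q ∧ ∀ x, (f x : ℕ) = look adds i x) ∨
    (∃ u, u < r ∧ ∀ x, (f x : ℕ) = look muls u x) ∨ ∀ x, (f x : ℕ) = std.getD x 0}

theorem mulEquiv_of_injective_std {G H : Type*} [Group G] [Group H] {q r : ℕ}
    {adds muls : List (List ℕ)} {std : List ℕ}
    (hG : ∃ φ : G →* Equiv.Perm (Fin (q + 1)), Function.Injective φ ∧
      φ.range = stdGroup q r adds muls std)
    (hH : ∃ φ : H →* Equiv.Perm (Fin (q + 1)), Function.Injective φ ∧
      φ.range = stdGroup q r adds muls std) :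
    Nonempty (G ≃* H) := by
  obtain ⟨φ, hφ, hφr⟩ := hG
  obtain ⟨ψ, hψ, hψr⟩ := hH
  exact ⟨(MonoidHom.ofInjective hφ).trans ((MulEquiv.subgroupCongr (hφr.trans hψr.symm)).trans
    (MonoidHom.ofInjective hψ).symm)⟩

variable {G : Type*} [Group G]

/-- `G` acts faithfully on the `q + 1` points through `φ`; the elements `a i` and `m u` act by
the tables, and the `m u` are the stabiliser of `0` and `∞`. -/
theorem exists_injective_std {q r : ℕ} (adds muls : List (List ℕ)) (reps std : List ℕ)
    (hchk : checkBool q r adds muls reps std = true)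
    (φ : G →* Equiv.Perm (Fin (q + 1))) (hφ : Function.Injective φ) (a m : ℕ → G)
    (ha : ∀ i, i < q → ∀ x, (φ (a i) x : ℕ) = look adds i x)
    (hm : ∀ u, u < r → ∀ x, (φ (m u) x : ℕ) = look muls u x)
    (hstab : ∀ g : G, φ g ⟨0, q.succ_pos⟩ = ⟨0, q.succ_pos⟩ → φ g (Fin.last q) = Fin.last q →
      ∃ u, u < r ∧ φ g = φ (m u))
    (ht : ∃ t : G, t * t = 1 ∧ φ t ⟨0, q.succ_pos⟩ = Fin.last q) :
    ∃ φ : G →* Equiv.Perm (Fin (q + 1)), Function.Injective φ ∧
      φ.range = stdGroup q r adds muls std := by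
  classical
  simp only [checkBool, shapeBool, Bool.and_eq_true, List.all_eq_true, List.mem_range,
    decide_eq_true_eq, Bool.or_eq_true, List.any_eq_true] at hchk
  obtain ⟨⟨⟨⟨⟨⟨⟨⟨⟨hq, hr⟩, hadd⟩, hback⟩, hmul⟩, hsucc⟩, hmul0⟩, hreps⟩, hcover⟩, hmain⟩ := hchk
  set o : Fin (q + 1) := ⟨0, q.succ_pos⟩ with ho
  set oo : Fin (q + 1) := Fin.last q with hoo
  have hlt : ∀ x : Fin (q + 1), x ≠ oo → (x : ℕ) < q := fun x hx =>
    lt_of_le_of_ne (Nat.lt_succ_iff.mp x.2) fun h => hx (Fin.ext h)
  have hval : ∀ (g : G) (x : Fin (q + 1)), φ g x < q + 1 := fun g x => (φ g x).2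
  have hmo : ∀ u, u < r → φ (m u) o = o ∧ φ (m u) oo = oo := fun u hu =>
    ⟨Fin.ext ((hm u hu o).trans (hmul u hu).2), Fin.ext ((hm u hu oo).trans (hmul u hu).1)⟩
  have hao : ∀ i, (hi : i < q) → φ (a i) o = ⟨i, Nat.lt_succ_of_lt hi⟩ ∧ φ (a i) oo = oo :=
    fun i hi => ⟨Fin.ext ((ha i hi o).trans (hadd i hi).2), Fin.ext ((ha i hi oo).trans (hadd i hi).1)⟩
  obtain ⟨t, htt, ht0⟩ := ht
  have htt' : ∀ x, φ t (φ t x) = x := fun x => by
    rw [← Equiv.Perm.mul_apply, ← map_mul, htt, map_one, Equiv.Perm.one_apply]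
  have hto : φ t oo = o := by rw [← ht0, htt']
  have hne : o ≠ oo := fun h => by
    have := congrArg Fin.val h
    simp [ho, hoo] at this
    omega
  -- `t` normalises the stabiliser of `0` and `∞`
  have hsw : ∀ (g : G), φ g o = o → φ g oo = oo → ∃ u, u < r ∧ φ (t * g * t) = φ (m u) := by
    intro g h0 h1
    refine hstab _ ?_ ?_
    · rw [map_mul, map_mul, Equiv.Perm.mul_apply, Equiv.Perm.mul_apply, ht0, h1, hto]
    · rw [map_mul, map_mul, Equiv.Perm.mul_apply, Equiv.Perm.mul_apply, hto, h0, ht0]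
  have hpow : ∀ (u i : ℕ), u < r → ∀ x, ((φ (m u) ^ i) x : ℕ) = look muls (u * i % r) x := by
    have hone : ∀ (i : ℕ) (x : Fin (q + 1)), 1 < r →
        ((φ (m 1) ^ i) x : ℕ) = look muls (i % r) x := by
      intro i x h1
      induction i with
      | zero => rw [pow_zero, Nat.zero_mod]; exact (hmul0 x (by omega)).symm
      | succ n ih =>
        rw [pow_succ', Equiv.Perm.mul_apply, hm 1 h1, ih,
          ← hsucc _ (Nat.mod_lt _ hr) x (by omega), Nat.mod_add_mod]
    intro u i hu x
    rcases Nat.lt_or_ge 1 r with h1 | h1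
    · have hu1 : φ (m u) = φ (m 1) ^ u := Equiv.ext fun y => Fin.ext (by
        rw [hm u hu, hone u y h1, Nat.mod_eq_of_lt hu])
      rw [hu1, ← pow_mul, hone _ x h1]
    · obtain rfl : r = 1 := by omega
      obtain rfl : u = 0 := by omega
      have hu1 : φ (m 0) = 1 := Equiv.ext fun y => Fin.ext (by
        rw [hm 0 hu]; exact hmul0 y (by omega))
      rw [hu1, one_pow, zero_mul, Nat.zero_mod]
      exact (hmul0 x (by omega)).symm
  obtain ⟨k, hk, hk'⟩ := hsw (m (1 % r)) (hmo _ (Nat.mod_lt 1 hr)).1 (hmo _ (Nat.mod_lt 1 hr)).2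
  have htw : ∀ (u : ℕ) (x : Fin (q + 1)), u < r → (φ t (φ (m u) x) : ℕ) =
      look muls (k * u % r) (φ t x) := by
    intro u x hu
    have hu1 : φ (m u) = φ (m (1 % r)) ^ u := Equiv.ext fun y => Fin.ext (by
      rw [hm u hu, hpow _ u (Nat.mod_lt 1 hr), Nat.mod_mul_mod, one_mul, Nat.mod_eq_of_lt hu])
    have hconj : φ t * φ (m u) * φ t = φ (m k) ^ u := by
      rw [hu1, ← hk', map_mul, map_mul]
      have htinv : (φ t)⁻¹ = φ t := inv_eq_of_mul_eq_one_right (by rw [← map_mul, htt, map_one])
      have := (conj_pow (i := u) (a := φ t) (b := φ (m (1 % r)))).symm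
      rwa [htinv] at this
    rw [← hpow k u hk (φ t x), ← hconj]
    simp only [Equiv.Perm.mul_apply, htt']
  -- the table of `t`
  set cs : List ℕ := reps.map fun e => if h : e < q + 1 then (φ t ⟨e, h⟩ : ℕ) else 0 with hcs
  have hcsmem : cs ∈ assigns q reps := by
    refine mem_assigns (by simp [hcs]) fun c hc => ?_
    obtain ⟨e, he, rfl⟩ := List.mem_map.mp hc
    obtain ⟨he0, heq⟩ := hreps e he
    rw [dif_pos (by omega)]
    have h1 : φ t ⟨e, by omega⟩ ≠ o := fun h => by
      have := congrArg (φ t) h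
      rw [htt', ht0] at this
      have := congrArg Fin.val this
      simp [hoo] at this
      omega
    have h2 : φ t ⟨e, by omega⟩ ≠ oo := fun h => by
      have := congrArg (φ t) h
      rw [htt', hto] at this
      have := congrArg Fin.val this
      simp [ho] at this
      omega
    exact ⟨Nat.pos_of_ne_zero fun h => h1 (Fin.ext h), hlt _ h2⟩
  set T := tab q r muls reps cs k with hT
  have hTv : ∀ x : Fin (q + 1), T.getD x 0 = (φ t x : ℕ) := by
    intro x
    have hgd : T.getD x 0 = tAt q r muls reps cs k x := by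
      simp [hT, tab, List.getD_eq_getElem?_getD, List.getElem?_map, List.getElem?_range, x.2]
    rw [hgd, tAt]
    by_cases hx0 : (x : ℕ) = 0
    · rw [if_pos hx0, show x = o from Fin.ext hx0, ht0]; rfl
    rw [if_neg hx0]
    by_cases hxq : (x : ℕ) = q
    · rw [if_pos hxq, show x = oo from Fin.ext hxq, hto]
    rw [if_neg hxq]
    have hxlt : (x : ℕ) < q := by have := x.2; omega
    obtain ⟨M, hM, hMx⟩ := (hcover x hxlt).resolve_left hx0
    rcases hf : (List.range (reps.length * r)).find?
      (fun i => decide (look muls (i % r) (reps.getD (i / r) 0) = x)) with _ | i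
    · exact absurd hMx (by simpa using List.find?_eq_none.mp hf M (List.mem_range.mpr hM))
    · have hi : i < reps.length * r := List.mem_range.mp (List.mem_of_find?_eq_some hf)
      have hix : look muls (i % r) (reps.getD (i / r) 0) = x := by
        simpa using List.find?_some hf
      have hl : i / r < reps.length := Nat.div_lt_iff_lt_mul hr |>.mpr hi
      set e := reps.getD (i / r) 0 with he
      have hee : e = reps[i / r] := by simp [he, List.getD_eq_getElem?_getD, hl]
      have heq : e < q + 1 := by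
        have := (hreps _ (List.getElem_mem hl)).2
        omega
      have hx' : x = φ (m (i % r)) ⟨e, heq⟩ :=
        Fin.ext (by rw [hm _ (Nat.mod_lt i hr)]; exact hix.symm)
      show look muls (k * (i % r) % r) (cs.getD (i / r) 0) = _
      rw [hx', htw _ _ (Nat.mod_lt i hr)]
      congr 1
      simp [hcs, List.getD_eq_getElem?_getD, hl, ← hee, Nat.lt_succ_iff.mp heq]
  -- the table is admissible
  have hinv : involBool q T = true := by
    simp only [involBool, List.all_eq_true, List.mem_range, decide_eq_true_eq]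
    intro x hx
    rw [hTv ⟨x, hx⟩, hTv (φ t ⟨x, hx⟩), htt']
  have hgood : goodBool q r adds muls T = true := by
    simp only [goodBool, List.all_eq_true, List.mem_range, decide_eq_true_eq, Bool.or_eq_true,
      List.any_eq_true]
    intro i hi
    by_cases hi0 : i = 0
    · exact Or.inl hi0
    refine Or.inr fun n hn => ?_
    by_cases hin : look adds i n ≠ 0
    · exact Or.inl hin
    rw [ne_eq, not_not] at hin
    refine Or.inr fun j hj => ?_
    by_cases hjT : look adds j (T.getD i 0) ≠ 0
    · exact Or.inl hjT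
    rw [ne_eq, not_not] at hjT
    refine Or.inr ?_
    let I : Fin (q + 1) := ⟨i, by omega⟩
    let N : Fin (q + 1) := ⟨n, by omega⟩
    have hn0 : N ≠ o := fun h => hi0 (by
      have := (hadd i hi).2
      rw [← hin, show n = 0 from congrArg Fin.val h, this])
    have hz : φ t N ≠ oo := fun h => hn0 (by rw [← htt' N, h, hto])
    have hzq := hlt _ hz
    have hN : φ (a i) N = o := Fin.ext ((ha i hi N).trans hin)
    have hI : φ (a j) (φ t I) = o := Fin.ext ((ha j hj _).trans (by rw [← hTv I]; exact hjT))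
    set g := a j * t * a i * t * a (φ t N : ℕ) with hg
    obtain ⟨u, hu, hgu⟩ := hstab (g * t) (by
      simp only [hg, map_mul, Equiv.Perm.mul_apply, ht0, (hao _ hzq).2, hto, (hao i hi).1]
      exact hI) (by
      simp only [hg, map_mul, Equiv.Perm.mul_apply, hto, (hao _ hzq).1, htt', hN, ht0,
        (hao j hj).2])
    refine ⟨u, hu, fun x hx => ?_⟩
    have := congrArg Fin.val (Equiv.Perm.ext_iff.mp hgu (φ t ⟨x, hx⟩))
    simp only [hg, map_mul, Equiv.Perm.mul_apply, htt', hm u hu, ha j hj, ha i hi, ha _ hzq] at this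
    simp only [← hTv, ha i hi] at this
    rw [ha (T.getD n 0) (by rw [show T.getD n 0 = _ from hTv N]; exact hzq)] at this
    exact this
  rcases hmain k hk cs hcsmem with hc | hc
  · exact absurd hc (by simp [← hT, hinv, hgood])
  simp only [conjBool, List.any_eq_true, List.mem_range, List.all_eq_true, decide_eq_true_eq] at hc
  obtain ⟨j, hj, hjstd⟩ := hc
  refine ⟨φ, hφ, le_antisymm ?_ ?_⟩
  · set S := stdGroup q r adds muls std with hS
    have hA : ∀ i, i < q → φ (a i) ∈ S := fun i hi => subset_closure (Or.inl ⟨i, hi, ha i hi⟩)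
    have hM : ∀ u, u < r → φ (m u) ∈ S := fun u hu =>
      subset_closure (Or.inr (Or.inl ⟨u, hu, hm u hu⟩))
    have ht' : φ (m j * t) ∈ S := subset_closure (Or.inr (Or.inr fun x => by
      rw [map_mul, Equiv.Perm.mul_apply, hm j hj, ← hTv]
      exact hjstd x x.2))
    have htS : φ t ∈ S := by
      rw [map_mul] at ht'
      exact (mul_mem_cancel_left (hM j hj)).mp ht'
    -- the stabiliser of `∞`
    have hstab1 : ∀ g : G, φ g oo = oo → φ g ∈ S := by
      intro g hg
      set i := (φ g o : ℕ) with hi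
      have hiq : i < q := hlt _ fun h => hne ((φ g).injective (h.trans hg.symm))
      obtain ⟨u, hu, hgu⟩ := hstab ((a i)⁻¹ * g) (by
        rw [map_mul, map_inv, Equiv.Perm.mul_apply, Equiv.Perm.inv_eq_iff_eq, (hao i hiq).1]) (by
        rw [map_mul, map_inv, Equiv.Perm.mul_apply, hg, Equiv.Perm.inv_eq_iff_eq, (hao i hiq).2])
      rw [map_mul, map_inv] at hgu
      rw [show φ g = φ (a i) * φ (m u) by rw [← hgu, mul_inv_cancel_left]]
      exact mul_mem (hA i hiq) (hM u hu)
    rintro _ ⟨g, rfl⟩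
    by_cases hg : φ g oo = oo
    · exact hstab1 g hg
    set y := (φ g oo : ℕ)
    have hy : y < q := hlt _ hg
    have h1 := hstab1 (t * ((a y)⁻¹ * g)) (by
      rw [map_mul, map_mul, map_inv, Equiv.Perm.mul_apply, Equiv.Perm.mul_apply,
        show (φ (a y))⁻¹ (φ g oo) = o from Equiv.Perm.inv_eq_iff_eq.mpr (hao y hy).1.symm, ht0])
    rw [map_mul, map_mul, map_inv] at h1
    exact (mul_mem_cancel_left (inv_mem (hA y hy))).mp ((mul_mem_cancel_left htS).mp h1)
  · rw [stdGroup, closure_le]
    rintro f (⟨i, hi, hf⟩ | ⟨u, hu, hf⟩ | hf)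
    · exact ⟨a i, Equiv.ext fun x => Fin.ext (by rw [ha i hi, hf])⟩
    · exact ⟨m u, Equiv.ext fun x => Fin.ext (by rw [hm u hu, hf])⟩
    · refine ⟨m j * t, Equiv.ext fun x => Fin.ext ?_⟩
      rw [map_mul, Equiv.Perm.mul_apply, hm j hj, ← hTv, hjstd x x.2, hf]

end Cfsg.Agent.SmallOrders.TwoPoint
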