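-- Coordinates for a doubly transitive group with regular translations.
--
-- * `exists_involution_swap`: a simple group doubly transitive on points has a swapping involution
-- * `exists_injective_std_of_action`: from translations `a i` and a generator `s` of the stabiliser
import Cfsg.Agent.Lib.SmallOrders.TwoPoint.Main
import Cfsg.Agent.Lib.SmallOrders.Basic

set_option autoImplicit false

namespace Cfsg.Agent.SmallOrders.TwoPoint

open MulAction

variable {G X : Type*} [Group G] [Finite G] [MulAction G X]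

theorem exists_involution_swap [IsPretransitive G X] (hfaith : ∀ g : G, (∀ x : X, g • x = x) → g = 1)
    (h2 : 2 ∣ Nat.card G) {o Q : X} (hreg : ∀ y, y ≠ o → ∃ g : G, g • o = o ∧ g • Q = y) :
    ∃ t : G, t * t = 1 ∧ t • Q = o := by
  obtain ⟨t₁, ht₁⟩ := exists_prime_orderOf_dvd_card' (G := G) 2 h2
  obtain ⟨A, hA⟩ : ∃ A : X, t₁ • A ≠ A := by
    by_contra! hall
    rw [hfaith t₁ hall, orderOf_one] at ht₁
    norm_num at ht₁
  have h11 : t₁ * t₁ = 1 := by
    rw [← pow_two]; exact (congrArg (t₁ ^ ·) ht₁).symm.trans (pow_orderOf_eq_one t₁)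
  obtain ⟨g₁, hg₁⟩ := exists_smul_eq G A o
  have hy : g₁ • t₁ • A ≠ o := fun h => hA (by
    rw [← hg₁] at h
    exact smul_left_cancel g₁ h)
  obtain ⟨g₂, hg₂o, hg₂Q⟩ := hreg _ hy
  set g := g₂⁻¹ * g₁ with hg
  refine ⟨g * t₁ * g⁻¹, by
    rw [show g * t₁ * g⁻¹ * (g * t₁ * g⁻¹) = g * (t₁ * t₁) * g⁻¹ by group, h11]; group, ?_⟩
  have h1 : g • (t₁ • A) = Q := by rw [hg, mul_smul, inv_smul_eq_iff, hg₂Q]
  have h2' : g • A = o := by rw [hg, mul_smul, hg₁, inv_smul_eq_iff, hg₂o]
  rw [← h1, mul_smul, mul_smul, inv_smul_smul, smul_smul t₁ t₁, h11, one_smul, h2']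

theorem exists_injective_std_of_action [Fintype X] {q r : ℕ} (adds muls : List (List ℕ))
    (reps std : List ℕ) (hchk : checkBool q r adds muls reps std = true)
    (hX : Fintype.card X = q + 1) (hfaith : ∀ g : G, (∀ x : X, g • x = x) → g = 1) (o Q : X)
    (hQo : Q ≠ o) (a : ℕ → G) (s : G) (hao : ∀ i, i < q → a i • o = o)
    (ha0 : a 0 = 1) (hinj : ∀ i, i < q → ∀ j, j < q → a i • Q = a j • Q → i = j)
    (hadd : ∀ i, i < q → ∀ j, j < q → look adds i j < q ∧ a i * a j = a (look adds i j))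
    (hso : s • o = o) (hsQ : s • Q = Q) (hsr : s ^ r = 1)
    (hconj : ∀ i, i < q → look muls 1 i < q ∧ s * a i * s⁻¹ = a (look muls 1 i))
    (hstab : ∀ g : G, g • o = o → g • Q = Q → g ∈ Subgroup.zpowers s)
    (ht : ∃ t : G, t * t = 1 ∧ t • Q = o) :
    ∃ φ : G →* Equiv.Perm (Fin (q + 1)), Function.Injective φ ∧
      φ.range = stdGroup q r adds muls std := by
  classical
  have hchk' := hchk
  simp only [checkBool, shapeBool, Bool.and_eq_true, List.all_eq_true, List.mem_range,
    decide_eq_true_eq, Bool.or_eq_true, List.any_eq_true] at hchk'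
  obtain ⟨⟨⟨⟨⟨⟨⟨⟨⟨hq, hr⟩, haddq⟩, hback⟩, hmul⟩, hsucc⟩, hmul0⟩, hreps⟩, hcover⟩, -⟩ := hchk'
  let f : Fin (q + 1) → X := fun i => if (i : ℕ) = q then o else a i • Q
  have hne : ∀ i, i < q → a i • Q ≠ o := fun i hi h => hQo (smul_left_cancel (a i) (h.trans (hao i hi).symm))
  have hf : Function.Bijective f := by
    refine (Fintype.bijective_iff_injective_and_card f).mpr ⟨fun i j hij => Fin.ext ?_, by
      rw [Fintype.card_fin, hX]⟩
    simp only [f] at hij
    have hi := i.2
    have hj := j.2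
    by_cases h1 : (i : ℕ) = q <;> by_cases h2 : (j : ℕ) = q
    · rw [h1, h2]
    · rw [if_pos h1, if_neg h2] at hij
      exact absurd hij.symm (hne _ (by omega))
    · rw [if_neg h1, if_pos h2] at hij
      exact absurd hij (hne _ (by omega))
    · rw [if_neg h1, if_neg h2] at hij
      exact hinj _ (by omega) _ (by omega) hij
  let e : Fin (q + 1) ≃ X := Equiv.ofBijective f hf
  let φ : G →* Equiv.Perm (Fin (q + 1)) :=
    e.symm.permCongrHom.toMonoidHom.comp (toPermHom G X)
  have hφ : ∀ (g : G) (i : Fin (q + 1)), φ g i = e.symm (g • e i) := fun g i => rfl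
  have hφinj : Function.Injective φ := (injective_iff_map_eq_one φ).mpr fun g hg => hfaith g fun x => by
    have h1 := Equiv.Perm.ext_iff.mp hg (e.symm x)
    rw [hφ, Equiv.apply_symm_apply, Equiv.Perm.one_apply] at h1
    exact e.symm.injective h1
  have hzero : e ⟨0, q.succ_pos⟩ = Q := by
    show f _ = Q
    simp [f, (show (0 : ℕ) ≠ q by omega), ha0]
  have hlast : e (Fin.last q) = o := by
    show f _ = o
    simp [f]
  have heval : ∀ (g : G) (x : Fin (q + 1)) (n : ℕ) (hn : n < q + 1), g • e x = e ⟨n, hn⟩ →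
      (φ g x : ℕ) = n := fun g x n hn h => by rw [hφ, h, Equiv.symm_apply_apply]
  have hmulv : ∀ (u : ℕ), u < r → ∀ i, i < q →
      look muls u i < q ∧ s ^ u * a i * (s ^ u)⁻¹ = a (look muls u i) := by
    intro u
    induction u with
    | zero => intro _ i hi; rw [hmul0 i (by omega)]; simp [hi]
    | succ u ih =>
      intro hu i hi
      obtain ⟨h1, h2⟩ := ih (by omega) i hi
      obtain ⟨h3, h4⟩ := hconj _ h1
      have h5 := hsucc u (by omega) i (by omega)
      rw [Nat.mod_eq_of_lt hu] at h5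
      rw [h5]
      refine ⟨h3, ?_⟩
      rw [← h4, ← h2, pow_succ']
      group
  have hsuo : ∀ u : ℕ, s ^ u • o = o ∧ s ^ u • Q = Q := fun u => by
    induction u with
    | zero => simp
    | succ u ih => simp only [pow_succ, mul_smul, hso, hsQ, ih, and_self]
  refine exists_injective_std adds muls reps std hchk φ hφinj a (fun u => s ^ u) ?_ ?_ ?_ ?_
  · intro i hi x
    by_cases hx : (x : ℕ) = q
    · rw [hx, (haddq i hi).1]
      refine heval _ _ q (by omega) ?_
      rw [show x = Fin.last q from Fin.ext hx, hlast, hao i hi]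
      exact hlast.symm
    · have hxq : (x : ℕ) < q := by have := x.2; omega
      obtain ⟨h1, h2⟩ := hadd i hi x hxq
      refine heval _ _ _ (by omega) ?_
      show a i • f x = f _
      simp only [f, if_neg hx, if_neg h1.ne, smul_smul, h2]
  · intro u hu x
    by_cases hx : (x : ℕ) = q
    · rw [hx, (hmul u hu).1]
      refine heval _ _ q (by omega) ?_
      rw [show x = Fin.last q from Fin.ext hx, hlast, (hsuo u).1]
      exact hlast.symm
    · have hxq : (x : ℕ) < q := by have := x.2; omega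
      obtain ⟨h1, h2⟩ := hmulv u hu x hxq
      refine heval _ _ _ (by omega) ?_
      show s ^ u • f x = f _
      simp only [f, if_neg hx, if_neg h1.ne, ← h2, mul_smul]
      rw [show (s ^ u)⁻¹ • Q = Q from inv_smul_eq_iff.mpr (hsuo u).2.symm]
  · intro g h0 h1
    rw [hφ, Equiv.symm_apply_eq] at h0 h1
    rw [hzero] at h0
    rw [hlast] at h1
    obtain ⟨n, hn⟩ := mem_powers_iff_mem_zpowers.mpr (hstab g h1 h0)
    refine ⟨n % r, Nat.mod_lt _ hr, congrArg φ ?_⟩
    rw [← hn]
    show s ^ n = s ^ (n % r)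
    conv_lhs => rw [← Nat.mod_add_div n r, pow_add, pow_mul, hsr, one_pow, mul_one]
  · obtain ⟨t, htt, htQ⟩ := ht
    refine ⟨t, htt, ?_⟩
    rw [hφ, hzero, htQ, Equiv.symm_apply_eq, hlast]

end Cfsg.Agent.SmallOrders.TwoPoint
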