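-- A simple group on `q + 1` Sylow subgroups of order `q` meeting trivially.
--
-- * `exists_frame`: two points, regular translations and the stabiliser of the two points
-- * `exists_sigma_sylow`: non-trivial `p`-elements, counted by Sylow subgroups meeting trivially
import Cfsg.Agent.Lib.SmallOrders.Basic

set_option autoImplicit false

namespace Cfsg.Agent.SmallOrders.TwoPoint

open Subgroup MulAction

variable {G : Type*} [Group G] [Finite G]

theorem card_nontrivial_pElements {p : ℕ} [Fact p.Prime] {q : ℕ}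
    (hP : ∀ P : Sylow p G, Nat.card (P : Subgroup G) = q)
    (hTI : ∀ P Q : Sylow p G, P ≠ Q → (P : Subgroup G) ⊓ (Q : Subgroup G) = ⊥) :
    Nat.card {g : G // g ≠ 1 ∧ ∃ k, g ^ p ^ k = 1} = Nat.card (Sylow p G) * (q - 1) := by
  classical
  have : Fintype (Sylow p G) := Fintype.ofFinite _
  let f : (Σ Q : Sylow p G, {x : (Q : Subgroup G) // x ≠ 1}) →
      {g : G // g ≠ 1 ∧ ∃ k, g ^ p ^ k = 1} := fun s =>
    ⟨(s.2.1 : G), fun e => s.2.2 (Subtype.ext e), by
      obtain ⟨k, hk⟩ := s.1.isPGroup' s.2.1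
      exact ⟨k, congrArg Subtype.val hk⟩⟩
  have hf : Function.Bijective f := by
    constructor
    · rintro ⟨Q₁, x₁, h₁⟩ ⟨Q₂, x₂, h₂⟩ h
      have hx : (x₁ : G) = x₂ := congrArg Subtype.val h
      obtain rfl : Q₁ = Q₂ := by
        by_contra hne
        have h3 : (x₁ : G) ∈ (Q₁ : Subgroup G) ⊓ (Q₂ : Subgroup G) := ⟨x₁.2, hx ▸ x₂.2⟩
        rw [hTI _ _ hne, mem_bot] at h3
        exact h₁ (Subtype.ext h3)
      obtain rfl : x₁ = x₂ := Subtype.ext hx
      rfl
    · rintro ⟨g, hg1, k, hg⟩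
      obtain ⟨e, -, he⟩ := (Nat.dvd_prime_pow (Fact.out : p.Prime)).mp (orderOf_dvd_of_pow_eq_one hg)
      obtain ⟨Q, hQ⟩ := (IsPGroup.of_card (n := e) (show Nat.card (zpowers g) = p ^ e by
        rw [Nat.card_zpowers, he])).exists_le_sylow
      exact ⟨⟨Q, ⟨g, hQ (mem_zpowers g)⟩, fun h => hg1 (congrArg Subtype.val h)⟩, rfl⟩
  rw [← Nat.card_congr (Equiv.ofBijective f hf), Nat.card_sigma]
  have hfib : ∀ Q : Sylow p G, Nat.card {x : (Q : Subgroup G) // x ≠ 1} = q - 1 := by
    intro Q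
    have : Fintype (Q : Subgroup G) := Fintype.ofFinite _
    rw [Nat.card_eq_fintype_card, Fintype.card_subtype_compl, Fintype.card_subtype_eq,
      ← Nat.card_eq_fintype_card, hP]
  simp [hfib]

variable [IsSimpleGroup G]

/-- Two points `P ≠ Q`, the translations `P` and the stabiliser `S` of the two points. -/
theorem exists_frame {p : ℕ} [Fact p.Prime] {q r : ℕ} [Fintype (Sylow p G)] (hq : 0 < q)
    (hn : Fintype.card (Sylow p G) = q + 1) (hP : ∀ P : Sylow p G, Nat.card (P : Subgroup G) = q)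
    (hTI : ∀ P Q : Sylow p G, P ≠ Q → (P : Subgroup G) ⊓ (Q : Subgroup G) = ⊥)
    (hcard : Nat.card G = q * r * (q + 1)) :
    (∀ g : G, (∀ R : Sylow p G, g • R = R) → g = 1) ∧
    ∃ (P Q : Sylow p G) (S : Subgroup G), Q ≠ P ∧
      (∀ g ∈ (P : Subgroup G), g • P = P) ∧
      (∀ g ∈ (P : Subgroup G), ∀ R : Sylow p G, R ≠ P → g • R = R → g = 1) ∧
      (∀ R, R ≠ P → ∃ g ∈ (P : Subgroup G), g • Q = R) ∧
      (∀ g : G, g ∈ S ↔ g • P = P ∧ g • Q = Q) ∧ Nat.card S = r ∧
      (∀ g ∈ S, ∀ a ∈ (P : Subgroup G), g * a * g⁻¹ ∈ (P : Subgroup G)) ∧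
      ∀ g ∈ S, (∀ a ∈ (P : Subgroup G), g * a * g⁻¹ = a) → g = 1 := by
  classical
  have hfaith : ∀ g : G, (∀ R : Sylow p G, g • R = R) → g = 1 := by
    intro g hg
    have hk : (toPermHom G (Sylow p G)).ker = ⊥ :=
      (MonoidHom.normal_ker _).eq_bot_or_eq_top.resolve_right fun ht => by
        have : Subsingleton (Sylow p G) := ⟨fun A B => by
          obtain ⟨x, hx⟩ := MulAction.exists_smul_eq G A B
          have hx1 : toPermHom G (Sylow p G) x = 1 :=
            MonoidHom.mem_ker.mp (ht ▸ mem_top x)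
          exact (Equiv.Perm.ext_iff.mp hx1 A).symm.trans hx⟩
        have := Fintype.card_le_one_iff_subsingleton.mpr this
        omega
    have : g ∈ (toPermHom G (Sylow p G)).ker := Equiv.Perm.ext hg
    rwa [hk, mem_bot] at this
  refine ⟨hfaith, ?_⟩
  obtain ⟨P⟩ := (inferInstance : Nonempty (Sylow p G))
  obtain ⟨Q, hQP⟩ : ∃ Q : Sylow p G, Q ≠ P := by
    by_contra! hall
    have : Subsingleton (Sylow p G) := ⟨fun A B => (hall A).trans (hall B).symm⟩
    have := Fintype.card_le_one_iff_subsingleton.mpr this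
    omega
  set N := normalizer ((P : Subgroup G) : Set G) with hN
  have hfixP : ∀ g : G, g ∈ N ↔ g • P = P := fun g => Sylow.smul_eq_iff_mem_normalizer.symm
  have hPo : ∀ g ∈ (P : Subgroup G), g • P = P := fun g hg => (hfixP g).mp (le_normalizer hg)
  have hfree : ∀ g ∈ (P : Subgroup G), ∀ R : Sylow p G, R ≠ P → g • R = R → g = 1 := by
    intro g hg R hR hgR
    have h1 : g ∈ (P : Subgroup G) ⊓ normalizer (R : Set G) :=
      ⟨hg, Sylow.smul_eq_iff_mem_normalizer.mp hgR⟩
    rw [P.isPGroup'.inf_normalizer_sylow R, hTI P R hR.symm, mem_bot] at h1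
    exact h1
  have hreg : ∀ R, R ≠ P → ∃ g ∈ (P : Subgroup G), g • Q = R := by
    intro R hR
    have : Fintype (P : Subgroup G) := Fintype.ofFinite _
    let f : ↥(P : Subgroup G) → {R : Sylow p G // R ≠ P} := fun g => ⟨(g : G) • Q, fun he =>
      hQP (smul_left_cancel (g : G) (he.trans (hPo g g.2).symm))⟩
    have hf : Function.Bijective f := by
      refine (Fintype.bijective_iff_injective_and_card f).mpr ⟨fun a b hab => Subtype.ext ?_, ?_⟩
      · have h1 : (a : G) • Q = (b : G) • Q := congrArg Subtype.val hab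
        exact (inv_mul_eq_one.mp (hfree _ (mul_mem (inv_mem a.2) b.2) Q hQP
          (by rw [mul_smul, ← h1, inv_smul_smul])))
      · rw [Fintype.card_subtype_compl, Fintype.card_subtype_eq, hn, ← Nat.card_eq_fintype_card,
          hP, Nat.add_sub_cancel]
    obtain ⟨g, hg⟩ := hf.2 ⟨R, hR⟩
    exact ⟨g, g.2, congrArg Subtype.val hg⟩
  set S := N ⊓ normalizer ((Q : Subgroup G) : Set G) with hS
  have hNc : Nat.card N = q * r := by
    have := card_normalizer_mul_card_sylow P
    rw [Nat.card_eq_fintype_card (α := Sylow p G), hn, hcard] at this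
    exact Nat.eq_of_mul_eq_mul_right q.succ_pos this
  have hsQ : ∀ g ∈ S, g • Q = Q := fun g hg => Sylow.smul_eq_iff_mem_normalizer.mpr hg.2
  have hsP : ∀ g ∈ S, g • P = P := fun g hg => (hfixP g).mp hg.1
  have hSc : Nat.card S = r := by
    let F : ↥(P : Subgroup G) × S → N := fun z =>
      ⟨z.1 * z.2, mul_mem (le_normalizer z.1.2) z.2.2.1⟩
    have hF : Function.Bijective F := by
      constructor
      · rintro ⟨a, x⟩ ⟨b, y⟩ he
        have h1 : (a : G) * x = b * y := congrArg Subtype.val he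
        have h2 : (a : G) • Q = (b : G) • Q := by
          have := congrArg (· • Q) h1
          simpa only [mul_smul, hsQ _ x.2, hsQ _ y.2] using this
        have h3 : a = b := Subtype.ext (inv_mul_eq_one.mp (hfree _ (mul_mem (inv_mem a.2) b.2) Q hQP
          (by rw [mul_smul, ← h2, inv_smul_smul])))
        subst h3
        exact Prod.ext rfl (Subtype.ext (mul_left_cancel h1))
      · rintro ⟨g, hg⟩
        obtain ⟨a, ha, haQ⟩ := hreg (g • Q) fun he =>
          hQP (smul_left_cancel g (he.trans ((hfixP g).mp hg).symm))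
        refine ⟨⟨⟨a, ha⟩, ⟨a⁻¹ * g, N.mul_mem (N.inv_mem (le_normalizer ha)) hg,
          Sylow.smul_eq_iff_mem_normalizer.mp ?_⟩⟩, Subtype.ext (mul_inv_cancel_left a g)⟩
        rw [mul_smul, ← haQ, inv_smul_smul]
    have := Nat.card_congr (Equiv.ofBijective F hF)
    rw [Nat.card_prod, hP, hNc] at this
    exact Nat.eq_of_mul_eq_mul_left hq this
  refine ⟨P, Q, S, hQP, hPo, hfree, hreg, fun g => ⟨fun hg => ⟨hsP g hg, hsQ g hg⟩,
    fun hg => ⟨(hfixP g).mpr hg.1, Sylow.smul_eq_iff_mem_normalizer.mp hg.2⟩⟩, hSc,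
    fun g hg a ha => (mem_normalizer_iff.mp hg.1 a).mp ha, fun g hg hc => ?_⟩
  refine hfaith g fun R => ?_
  by_cases hR : R = P
  · rw [hR]; exact hsP g hg
  · obtain ⟨a, ha, rfl⟩ := hreg R hR
    rw [smul_smul, mul_inv_eq_iff_eq_mul.mp (hc a ha), mul_smul, hsQ g hg]

end Cfsg.Agent.SmallOrders.TwoPoint
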